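import Groth.Agent.Cyc.K133.NormExt
import Groth.Prelude.Def_Cyc

/-!
# Descent of cycles along a finite normal field extension
-/

set_option autoImplicit false
universe u

open CategoryTheory CategoryTheory.Limits AlgebraicGeometry TopologicalSpace IsLocalRing

namespace K133.CycDesc

open K133.NormExt

theorem pullFun_eq {X Y : Scheme.{u}} (p : X ⟶ Y) (α : Y → ℤ) (x : X) :
    Cyc.pullFun p (fun _ => 0) (fun _ => 0) 0 α x = α (p x) * ((len p x).toNat : ℤ) := by
  rw [Cyc.pullFun, if_pos (by simp)]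
  rfl

variable {k k' : Type u} [Field k] [Field k'] [Algebra k k'] {X : Scheme.{u}}
  (f : X ⟶ Spec (CommRingCat.of k))

theorem surjective_fst : Function.Surjective (pullback.fst f (bs k k')) := by
  have h : Surjective (bs k k') := by
    constructor
    intro y
    exact ⟨IsLocalRing.closedPoint k', Subsingleton.elim (α := PrimeSpectrum k) _ _⟩
  exact (inferInstance : Surjective (pullback.fst f (bs k k'))).surj

variable [FiniteDimensional k k']

theorem toNat_len_dvd (x : ↥(pullback f (bs k k'))) :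
    (len (pullback.fst f (bs k k')) x).toNat ∣ Field.finInsepDegree k k' := by
  obtain ⟨n, hn, hn'⟩ := exists_len_eq f x
  rw [hn']
  exact hn

theorem toNat_len_ne_zero (x : ↥(pullback f (bs k k'))) :
    (len (pullback.fst f (bs k k')) x).toNat ≠ 0 := by
  intro h
  have h1 := toNat_len_dvd f x
  rw [h, zero_dvd_iff] at h1
  exact NeZero.ne _ h1

variable [Normal k k']

theorem existsUnique (Z' : AlgebraicCycle (pullback f (bs k k')) ℤ)
    (hZ' : ∀ (σ : k' ≃ₐ[k] k') (x' : ↥(pullback f (bs k k'))), Z' (tw f σ x') = Z' x') :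
    ∃! Z : AlgebraicCycle X ℤ, ∀ x' : ↥(pullback f (bs k k')),
      (Field.finInsepDegree k k' : ℤ) * Z' x' =
        Cyc.pullFun (pullback.fst f (bs k k')) (fun _ => 0) (fun _ => 0) 0 ⇑Z x' := by
  let p := pullback.fst f (bs k k')
  let q := Field.finInsepDegree k k'
  let s : X → ↥(pullback f (bs k k')) := Function.surjInv (surjective_fst f)
  have hs : ∀ x, p (s x) = x := Function.surjInv_eq (surjective_fst f)
  let F : X → ℤ := fun x ↦ ((q / (len p (s x)).toNat : ℕ) : ℤ) * Z' (s x)
  have hF : ∀ x' : ↥(pullback f (bs k k')), (q : ℤ) * Z' x' = F (p x') * ((len p x').toNat : ℤ) := by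
    intro x'
    obtain ⟨σ, hσ⟩ := exists_tw f (s (p x')) x' (hs (p x'))
    have h1 : Z' x' = Z' (s (p x')) := by rw [← hZ' σ (s (p x')), hσ]
    have h2 : len p x' = len p (s (p x')) := by rw [← len_tw f σ (s (p x')), hσ]
    have h3 : ((q / (len p (s (p x'))).toNat : ℕ) : ℤ) * ((len p (s (p x'))).toNat : ℤ) = q := by
      exact_mod_cast Nat.div_mul_cancel (toNat_len_dvd f (s (p x')))
    rw [h1, h2]
    simp only [F]
    rw [mul_right_comm, h3]
  have hloc : ∀ z ∈ (Set.univ : Set X), ∃ t ∈ nhds z, Set.Finite (t ∩ F.support) := by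
    intro z _
    obtain ⟨U, hU, hzU, -⟩ := exists_isAffineOpen_mem_and_subset (X := X) (x := z) (U := ⊤) trivial
    refine ⟨U, U.2.mem_nhds hzU, ?_⟩
    have hcomp : IsCompact (p ⁻¹' (U : Set X)) := p.isCompact_preimage hU.isCompact
    have hfin := LocallyFiniteSupport.finite_inter_support_of_isCompact
      (Function.locallyFinsupp.locallyFiniteSupport Z') hcomp
    refine (hfin.image p).subset ?_
    rintro x ⟨hxU, hx⟩
    refine ⟨s x, ⟨?_, ?_⟩, hs x⟩
    · change p (s x) ∈ U
      rw [hs]
      exact hxU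
    · intro h0
      apply hx
      change _ * Z' (s x) = 0
      have h0' : Z' (s x) = 0 := h0
      rw [h0', mul_zero]
  refine ⟨⟨F, Set.subset_univ _, hloc⟩, ?_, ?_⟩
  · intro x'
    rw [pullFun_eq]
    exact hF x'
  · intro Z2 h2
    apply DFunLike.ext
    intro x
    have h3 := h2 (s x)
    rw [pullFun_eq] at h3
    have h4 := hF (s x)
    have h5 : Z2 (p (s x)) * ((len p (s x)).toNat : ℤ) = F (p (s x)) * ((len p (s x)).toNat : ℤ) :=
      h3.symm.trans h4
    have h6 : ((len p (s x)).toNat : ℤ) ≠ 0 := by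
      exact_mod_cast toNat_len_ne_zero f (s x)
    have h7 := mul_right_cancel₀ h6 h5
    rw [hs] at h7
    exact h7

end K133.CycDesc
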