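import Mathlib.RingTheory.OrderOfVanishing.Basic
import Mathlib.RingTheory.DiscreteValuationRing.Basic
import Mathlib.RingTheory.HopkinsLevitzki

/-!
# Ideals of finite colength in a discrete valuation ring
-/

set_option autoImplicit false

open IsLocalRing

namespace K133.DVRLen

variable {R : Type*} [CommRing R] [IsDomain R] [IsDiscreteValuationRing R]

theorem length_quot_pow (n : ℕ) : Module.length R (R ⧸ maximalIdeal R ^ n) = n := by
  obtain ⟨ϖ, hϖ⟩ := IsDiscreteValuationRing.exists_irreducible R
  rw [hϖ.maximalIdeal_eq, Ideal.span_singleton_pow]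
  change Ring.ord R (ϖ ^ n) = n
  rw [Ring.ord_pow (mem_nonZeroDivisors_of_ne_zero hϖ.ne_zero), Ring.ord_of_irreducible hϖ]
  simp

theorem length_eq_top : Module.length R R = ⊤ := by
  by_contra h
  have h1 : IsFiniteLength R R := (Module.length_ne_top_iff).mp h
  rw [isFiniteLength_iff_isNoetherian_isArtinian] at h1
  have h2 : IsArtinianRing R := h1.2
  exact IsDiscreteValuationRing.not_isField R (IsArtinianRing.isField_of_isDomain R)

theorem eq_pow_of_length (J : Ideal R) (n : ℕ) (h : Module.length R (R ⧸ J) = n) :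
    J = maximalIdeal R ^ n := by
  have hJ : J ≠ ⊥ := by
    rintro rfl
    rw [LinearEquiv.length_eq (Submodule.quotEquivOfEqBot (⊥ : Ideal R) rfl), length_eq_top] at h
    exact absurd h.symm (ENat.natCast_ne_top n)
  obtain ⟨ϖ, hϖ⟩ := IsDiscreteValuationRing.exists_irreducible R
  obtain ⟨k, hk⟩ := IsDiscreteValuationRing.ideal_eq_span_pow_irreducible hJ hϖ
  have h1 : J = maximalIdeal R ^ k := by
    rw [hk, hϖ.maximalIdeal_eq, Ideal.span_singleton_pow]
  rw [h1, length_quot_pow] at h
  rw [h1]
  congr 1
  exact_mod_cast h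

end K133.DVRLen
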