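import Groth.Agent.Cyc.K133.NoEmbMain
import Mathlib.AlgebraicGeometry.Morphisms.Flat
import Mathlib.RingTheory.Flat.TorsionFree

/-!
# Lengths of local rings of the flat closure of the generic fibre
-/

set_option autoImplicit false
universe u

open CategoryTheory CategoryTheory.Limits AlgebraicGeometry TopologicalSpace IsLocalRing

namespace K133.FlatCl

open Groth.Agent.Divis.CartierBasic Groth.Agent.Divis.CartierStalk

theorem stalkIdeal_ker {W P : Scheme.{u}} (j : W ⟶ P) [IsOpenImmersion j] [QuasiCompact j] (z : W) :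
    stalkIdeal j.ker (j z) = ⊥ := by
  obtain ⟨U, hU, hle, -⟩ := exists_affine_le (x := j z) j.opensRange ⊤ ⟨z, rfl⟩ trivial
  rw [stalkIdeal_eq j.ker U hU, Scheme.Hom.ker_apply]
  have := Scheme.Hom.isIso_app j U.1 hle
  have hinj : Function.Injective (j.app U.1).hom :=
    (ConcreteCategory.bijective_of_isIso (j.app U.1)).1
  rw [(RingHom.injective_iff_ker_eq_bot _).mp hinj, Ideal.map_bot]

theorem length_image {W P : Scheme.{u}} (j : W ⟶ P) [IsOpenImmersion j] [QuasiCompact j] (z : W)
    (w : j.image) (hw : j.imageι w = j z) :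
    Module.length (j.image.presheaf.stalk w) (j.image.presheaf.stalk w) =
      Module.length (W.presheaf.stalk z) (W.presheaf.stalk z) := by
  rw [NoEmbMain.length_stalk]
  have key : ∀ y : P, y = j z → Module.length (P.presheaf.stalk y) (P.presheaf.stalk y ⧸ stalkIdeal j.ker y) =
      Module.length (W.presheaf.stalk z) (W.presheaf.stalk z) := by
    rintro y rfl
    rw [stalkIdeal_ker]
    refine (LinearEquiv.length_eq (Submodule.quotEquivOfEqBot
      (⊥ : Submodule (P.presheaf.stalk (j z)) (P.presheaf.stalk (j z))) rfl)).trans ?_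
    exact Groth.Agent.CycA.LenPow.length_self_of_ringEquiv
      (asIso (j.stalkMap z)).commRingCatIsoToRingEquiv
  exact key _ hw

/-- The local ring at a point of the closed fibre of a flat scheme over a discrete valuation ring has infinite
length. -/
theorem length_eq_top {R : Type u} [CommRing R] [IsDomain R] [IsDiscreteValuationRing R] {V : Scheme.{u}}
    (f : V ⟶ Spec (CommRingCat.of R)) [Flat f] (w : V) (hw : f w = closedPoint R) :
    Module.length (V.presheaf.stalk w) (V.presheaf.stalk w) = ⊤ := by
  obtain ⟨ϖ, hϖ⟩ := IsDiscreteValuationRing.exists_irreducible R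
  let := (f.stalkMap w).hom.toAlgebra
  have h1 : Module.Flat ((Spec (CommRingCat.of R)).presheaf.stalk (f w)) (V.presheaf.stalk w) :=
    Flat.stalkMap f w
  let A := (Spec (CommRingCat.of R)).presheaf.stalk (f w)
  let : Algebra R A := (show Algebra R ((Spec.structureSheaf R).presheaf.stalk (f w)) from inferInstance)
  have hloc : IsLocalization.AtPrime A (f w).asIdeal :=
    inferInstanceAs (IsLocalization.AtPrime ((Spec.structureSheaf R).presheaf.stalk (f w)) (f w).asIdeal)
  have h2 : Module.Flat R A := IsLocalization.flat A (f w).asIdeal.primeCompl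
  have h3 : IsSMulRegular R ϖ := by
    intro a b hab
    exact mul_left_cancel₀ hϖ.ne_zero hab
  have h4 : IsSMulRegular A (algebraMap R A ϖ) := h3.of_flat
  have h5 : IsSMulRegular (V.presheaf.stalk w) (algebraMap A (V.presheaf.stalk w) (algebraMap R A ϖ)) :=
    h4.of_flat
  have h6 : algebraMap R A ϖ ∈ maximalIdeal A := by
    rw [IsLocalization.AtPrime.to_map_mem_maximal_iff A (f w).asIdeal, hw]
    exact hϖ.1
  have h7 : ¬ IsUnit (algebraMap A (V.presheaf.stalk w) (algebraMap R A ϖ)) := by
    intro h8
    exact h6 (IsLocalHom.map_nonunit (f := (f.stalkMap w).hom) _ h8)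
  by_contra h
  have h9 : IsFiniteLength (V.presheaf.stalk w) (V.presheaf.stalk w) := Module.length_ne_top_iff.mp h
  rw [isFiniteLength_iff_isNoetherian_isArtinian] at h9
  have h10 : IsArtinianRing (V.presheaf.stalk w) := h9.2
  apply h7
  apply IsArtinianRing.isUnit_of_mem_nonZeroDivisors
  rw [mem_nonZeroDivisors_iff_right]
  intro c hc
  apply h5
  simp only [smul_eq_mul, mul_zero]
  rw [mul_comm]
  exact hc

end K133.FlatCl
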