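import Groth.Agent.Cyc.K133.FlatCl
import Groth.Agent.FlatMor.K265.Colon
import Groth.Agent.Models.DVRGeneric
import Groth.Prelude.Def_Cyc
import Mathlib.AlgebraicGeometry.PullbackCarrier

/-!
# The cycle of the flat closure of the generic fibre
-/

set_option autoImplicit false
universe u

open CategoryTheory CategoryTheory.Limits AlgebraicGeometry TopologicalSpace IsLocalRing

namespace K133.FlatClMain

theorem finsum_of_eq {α β : Type*} {f : α → β} (hf : Function.Injective f) (g : α → ℤ) (a : α) (x : β)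
    (h : f a = x) : ∑ᶠ z ∈ {z | f z = x}, g z = g a := by
  have : {z | f z = x} = {a} := by
    ext z
    simp only [Set.mem_ofPred_eq, Set.mem_singleton_iff]
    exact ⟨fun hz ↦ hf (hz.trans h.symm), fun hz ↦ hz ▸ h⟩
  rw [this, finsum_mem_singleton]

theorem finsum_of_not {α β : Type*} {f : α → β} (g : α → ℤ) (x : β)
    (h : x ∉ Set.range f) : ∑ᶠ z ∈ {z | f z = x}, g z = 0 := by
  have : {z | f z = x} = ∅ := by
    ext z
    simp only [Set.mem_ofPred_eq, Set.mem_empty_iff_false, iff_false]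
    exact fun hz ↦ h ⟨z, hz⟩
  rw [this, finsum_mem_empty]

section Pull

variable {X S T T' : Scheme.{u}} (p : X ⟶ S) (x : T ⟶ S) (a : T' ⟶ T)

/-- base change of the second factor -/
noncomputable abbrev bc : pullback p (a ≫ x) ⟶ pullback p x :=
  pullback.map p (a ≫ x) p x (𝟙 X) a (𝟙 S)
    ((Category.comp_id _).trans (Category.id_comp _).symm) (Category.comp_id _)

theorem bc_fst : bc p x a ≫ pullback.fst p x = pullback.fst p (a ≫ x) :=
  (pullback.lift_fst _ _ _).trans (Category.comp_id _)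

theorem bc_snd : bc p x a ≫ pullback.snd p x = pullback.snd p (a ≫ x) ≫ a :=
  pullback.lift_snd _ _ _

theorem isPullback_bc : IsPullback (bc p x a) (pullback.snd p (a ≫ x)) (pullback.snd p x) a := by
  refine IsPullback.of_right (h₁₂ := pullback.fst p x) (h₂₂ := x) (v₁₃ := p) ?_ (bc_snd p x a)
    (IsPullback.of_hasPullback p x)
  rw [bc_fst]
  exact IsPullback.of_hasPullback p (a ≫ x)

theorem isOpenImmersion_bc [IsOpenImmersion a] : IsOpenImmersion (bc p x a) :=
  MorphismProperty.of_isPullback (isPullback_bc p x a).flip inferInstance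

theorem mem_range_bc (y : ↥(pullback p x)) :
    y ∈ Set.range (bc p x a) ↔ pullback.snd p x y ∈ Set.range a := by
  constructor
  · rintro ⟨z, rfl⟩
    rw [← Scheme.Hom.comp_apply, bc_snd, Scheme.Hom.comp_apply]
    exact ⟨_, rfl⟩
  · rintro ⟨t, ht⟩
    obtain ⟨z, hz, -⟩ := Scheme.exists_preimage_of_isPullback (isPullback_bc p x a) y t ht.symm
    exact ⟨z, hz⟩

end Pull

section Main

variable {X Z S T T' : Scheme.{u}} (p : X ⟶ S) (ι : Z ⟶ X) (x : T ⟶ S) (a : T' ⟶ T)

/-- base change of the first factor -/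
noncomputable abbrev cb : pullback (ι ≫ p) x ⟶ pullback p x :=
  pullback.map (ι ≫ p) x p x ι (𝟙 _) (𝟙 S) (Category.comp_id _)
    ((Category.comp_id _).trans (Category.id_comp _).symm)

theorem cb_fst : cb p ι x ≫ pullback.fst p x = pullback.fst (ι ≫ p) x ≫ ι :=
  pullback.lift_fst _ _ _

theorem cb_snd : cb p ι x ≫ pullback.snd p x = pullback.snd (ι ≫ p) x :=
  (pullback.lift_snd _ _ _).trans (Category.comp_id _)

theorem isPullback_cb : IsPullback (pullback.fst (ι ≫ p) x) (cb p ι x) ι (pullback.fst p x) := by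
  refine IsPullback.of_bot (v₂₁ := pullback.snd p x) (v₂₂ := p) (h₃₁ := x) ?_ (cb_fst p ι x).symm
    (IsPullback.of_hasPullback p x)
  rw [cb_snd]
  exact IsPullback.of_hasPullback (ι ≫ p) x

theorem isClosedImmersion_cb [IsClosedImmersion ι] : IsClosedImmersion (cb p ι x) :=
  MorphismProperty.of_isPullback (isPullback_cb p ι x) inferInstance

theorem cb_bc : cb p ι (a ≫ x) ≫ bc p x a = bc (ι ≫ p) x a ≫ cb p ι x := by
  apply pullback.hom_ext
  · rw [Category.assoc, bc_fst, cb_fst, Category.assoc, cb_fst, ← Category.assoc, bc_fst]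
  · rw [Category.assoc, bc_snd, ← Category.assoc, cb_snd, Category.assoc, cb_snd, bc_snd]

end Main

section Final

variable {X Z S : Scheme.{u}} (p : X ⟶ S) (ι : Z ⟶ X) [IsClosedImmersion ι] (R : Type u) [CommRing R] [IsDomain R]
  [IsDiscreteValuationRing R] (x : Spec (CommRingCat.of R) ⟶ S)

/-- the inclusion of the generic point -/
noncomputable abbrev gen : Spec (CommRingCat.of (FractionRing R)) ⟶ Spec (CommRingCat.of R) :=
  Spec.map (CommRingCat.ofHom (algebraMap R (FractionRing R)))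

theorem main (t : ↥(pullback p x)) :
    Cyc.subschemeFun (fun _ => (0 : ℤ)) 0 ((bc (ι ≫ p) x (gen R)).ker.subschemeι ≫ cb p ι x) t =
      ∑ᶠ t' ∈ {t' : ↥(pullback p (gen R ≫ x)) | bc p x (gen R) t' = t},
        Cyc.subschemeFun (fun _ => (0 : ℤ)) 0 (cb p ι (gen R ≫ x)) t' := by
  have hgen : IsOpenImmersion (gen R) := Groth.Agent.Models.DVRGeneric.isOpenImmersion_generic R (FractionRing R)
  have hj : IsOpenImmersion (bc (ι ≫ p) x (gen R)) := isOpenImmersion_bc _ _ _
  have hh : IsOpenImmersion (bc p x (gen R)) := isOpenImmersion_bc _ _ _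
  have hiR : IsClosedImmersion (cb p ι x) := isClosedImmersion_cb _ _ _
  have hiK : IsClosedImmersion (cb p ι (gen R ≫ x)) := isClosedImmersion_cb _ _ _
  have hqc : QuasiCompact (bc (ι ≫ p) x (gen R)) :=
    MorphismProperty.of_isPullback (isPullback_bc (ι ≫ p) x (gen R)).flip inferInstance
  have hcomm := cb_bc p ι x (gen R)
  have hinj1 : Function.Injective ((bc (ι ≫ p) x (gen R)).imageι ≫ cb p ι x) := by
    rw [Scheme.Hom.comp_base, TopCat.coe_comp]
    exact (cb p ι x).isEmbedding.injective.comp ((bc (ι ≫ p) x (gen R)).imageι.isEmbedding.injective)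
  have hinj2 : Function.Injective (cb p ι (gen R ≫ x)) := (cb p ι (gen R ≫ x)).isEmbedding.injective
  have hinj3 : Function.Injective (bc p x (gen R)) := (bc p x (gen R)).isOpenEmbedding.injective
  have hpt : ∀ w : ↥(bc (ι ≫ p) x (gen R)).image, pullback.snd p x (((bc (ι ≫ p) x (gen R)).imageι ≫ cb p ι x) w) =
      pullback.snd (ι ≫ p) x ((bc (ι ≫ p) x (gen R)).imageι w) := by
    intro w
    rw [← Scheme.Hom.comp_apply, Category.assoc, cb_snd, Scheme.Hom.comp_apply]
  have hpt' : ∀ z : ↥(pullback (ι ≫ p) (gen R ≫ x)), cb p ι x (bc (ι ≫ p) x (gen R) z) =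
      bc p x (gen R) (cb p ι (gen R ≫ x) z) := by
    intro z
    rw [← Scheme.Hom.comp_apply, ← hcomm, Scheme.Hom.comp_apply]
  rw [Cyc.subschemeFun, if_pos rfl]
  by_cases ht : t ∈ Set.range (bc p x (gen R))
  · obtain ⟨t0, rfl⟩ := ht
    rw [finsum_of_eq hinj3 _ t0 _ rfl, Cyc.subschemeFun, if_pos rfl]
    by_cases hz : t0 ∈ Set.range (cb p ι (gen R ≫ x))
    · obtain ⟨z, rfl⟩ := hz
      rw [finsum_of_eq hinj2 _ z _ rfl]
      have hw : (bc (ι ≫ p) x (gen R)).imageι ((bc (ι ≫ p) x (gen R)).toImage z) = bc (ι ≫ p) x (gen R) z := by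
        rw [← Scheme.Hom.comp_apply, Scheme.Hom.toImage_imageι]
      refine (finsum_of_eq hinj1 _ ((bc (ι ≫ p) x (gen R)).toImage z) _ ?_).trans ?_
      · rw [Scheme.Hom.comp_apply, hw, hpt']
      · exact congrArg (fun (m : ℕ∞) ↦ (m.toNat : ℤ)) (FlatCl.length_image _ z _ hw)
    · rw [finsum_of_not _ _ hz]
      refine finsum_of_not _ _ ?_
      rintro ⟨w, hw⟩
      have h1 : (bc (ι ≫ p) x (gen R)).imageι w ∈ Set.range (bc (ι ≫ p) x (gen R)) := by
        rw [mem_range_bc, ← hpt, hw, ← mem_range_bc]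
        exact ⟨_, rfl⟩
      obtain ⟨z, hz'⟩ := h1
      apply hz
      refine ⟨z, hinj3 ?_⟩
      rw [← hw, ← hpt', hz', Scheme.Hom.comp_apply]
  · rw [finsum_of_not _ _ ht]
    by_cases hw : t ∈ Set.range ((bc (ι ≫ p) x (gen R)).imageι ≫ cb p ι x)
    · obtain ⟨w, rfl⟩ := hw
      refine (finsum_of_eq hinj1 _ w _ rfl).trans ?_
      have hflat1 : Flat (gen R) := inferInstance
      have hsub : Subsingleton ↥(Spec (CommRingCat.of (FractionRing R))) :=
        inferInstanceAs (Subsingleton (PrimeSpectrum (FractionRing R)))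
      have hflat2 : Flat (pullback.snd (ι ≫ p) (gen R ≫ x)) := inferInstance
      have hflat3 : Flat (bc (ι ≫ p) x (gen R) ≫ pullback.snd (ι ≫ p) x) := by
        rw [bc_snd]
        infer_instance
      have hflat4 : Flat ((bc (ι ≫ p) x (gen R)).imageι ≫ pullback.snd (ι ≫ p) x) :=
        K265.Colon.flat_imageι _ _
      have hcl : ((bc (ι ≫ p) x (gen R)).imageι ≫ pullback.snd (ι ≫ p) x) w = closedPoint R := by
        by_contra hne
        have h1 := Groth.Agent.Models.DVRGeneric.range_generic R (FractionRing R) _ hne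
        apply ht
        rw [mem_range_bc, hpt]
        exact h1
      have h2 := FlatCl.length_eq_top _ w hcl
      exact congrArg (fun (m : ℕ∞) ↦ (m.toNat : ℤ)) h2
    · exact finsum_of_not _ _ hw

end Final

end K133.FlatClMain
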