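import Groth.Agent.CycA.LenPow
import Mathlib.FieldTheory.PurelyInseparable.PerfectClosure
import Mathlib.RingTheory.Spectrum.Prime.Homeomorph
import Mathlib.RingTheory.Unramified.Field

/-!
# The lengths of the local rings of `K ⊗[k] k'` divide the inseparable degree of `k' / k`
-/

set_option autoImplicit false
universe u

open TensorProduct Module Groth.Agent.CycA.LenPow

namespace K133.LenDvd

/-- All localizations at minimal primes have length (over themselves) dividing `N`. -/
def DL (N : ℕ) (A : Type*) [CommRing A] : Prop :=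
  ∀ (q : Ideal A) [q.IsPrime], q ∈ minimalPrimes A →
    ∃ n : ℕ, n ∣ N ∧ Module.length (Localization.AtPrime q) (Localization.AtPrime q) = n

theorem length_congr {B : Type*} [CommRing B] (Q₁ Q₂ : Ideal B) [Q₁.IsPrime] [Q₂.IsPrime] (h : Q₁ = Q₂) :
    Module.length (Localization.AtPrime Q₁) (Localization.AtPrime Q₁) =
      Module.length (Localization.AtPrime Q₂) (Localization.AtPrime Q₂) := by
  subst h
  rfl

theorem DL.of_ringEquiv {N : ℕ} {A B : Type*} [CommRing A] [CommRing B] (e : A ≃+* B)
    (h : DL N A) : DL N B := by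
  intro q hq hqm
  have hq' : (q.comap e).IsPrime := inferInstance
  have hmin : q.comap e ∈ minimalPrimes A := by
    rw [minimalPrimes_eq_minimals] at hqm ⊢
    refine ⟨hq', fun J hJ hle => ?_⟩
    have hJ' : J.IsPrime := hJ
    have h1 : (J.comap e.symm).IsPrime := inferInstance
    have h2 := hqm.2 h1 (by
      intro x hx
      have := hle (show e.symm x ∈ J from hx)
      rw [Ideal.mem_comap] at this
      simpa using this)
    intro x hx
    have h3 := h2 (show e x ∈ q from hx)
    rw [Ideal.mem_comap] at h3
    simpa using h3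
  obtain ⟨n, hn, hn'⟩ := h (q.comap e) hmin
  refine ⟨n, hn, ?_⟩
  rw [← hn']
  have hmap : Submonoid.map e.toMonoidHom (q.comap e).primeCompl = q.primeCompl := by
    ext x
    constructor
    · rintro ⟨y, hy, rfl⟩
      exact hy
    · intro hx
      refine ⟨e.symm x, ?_, by simp⟩
      intro hh
      apply hx
      have : e (e.symm x) ∈ q := hh
      simpa using this
  exact (length_self_of_ringEquiv (IsLocalization.ringEquivOfRingEquiv
    (Localization.AtPrime (q.comap e)) (Localization.AtPrime q) e hmap)).symm

theorem DL.of_isReduced (A : Type*) [CommRing A] [IsReduced A] : DL 1 A := by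
  intro q hq hqm
  refine ⟨1, dvd_rfl, ?_⟩
  rw [Nat.cast_one]
  apply length_self_eq_one_of_isField
  rw [IsLocalRing.isField_iff_maximalIdeal_eq]
  have h := IsLocalization.AtPrime.radical_map_of_mem_minimalPrimes
    (A := Localization.AtPrime q) q ⊥ hqm
  rw [IsLocalization.AtPrime.map_eq_maximalIdeal q, Ideal.map_bot] at h
  rw [← h]
  exact nilradical_eq_zero (R := Localization.AtPrime q)

theorem DL.of_flat {M N : ℕ} {A B : Type*} [CommRing A] [CommRing B] [Algebra A B]
    [Module.Flat A B] (hA : DL M A)
    (hF : ∀ (q : Ideal A) [q.IsPrime], q ∈ minimalPrimes A → DL N (q.Fiber B)) : DL (M * N) B := by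
  intro Q hQ hQm
  let q := Q.under A
  have hq : q.IsPrime := inferInstance
  have hqm : q ∈ minimalPrimes A := under_mem_minimalPrimes_of_flat Q hQm
  let r := PrimeSpectrum.primesOverOrderIsoFiber A B q (Ideal.primesOver.mk q Q)
  have hr : Q = r.1.comap Algebra.TensorProduct.includeRight := by
    rw [← PrimeSpectrum.coe_primesOverOrderIsoFiber_symm_apply, OrderIso.symm_apply_apply]
  have hrm : r.1 ∈ minimalPrimes (q.Fiber B) := by
    rw [minimalPrimes_eq_minimals] at hQm ⊢
    refine ⟨r.2, fun J hJ hle => ?_⟩
    have hJ' : J.IsPrime := hJ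
    let J' : PrimeSpectrum (q.Fiber B) := ⟨J, hJ⟩
    let P := (PrimeSpectrum.primesOverOrderIsoFiber A B q).symm J'
    have hle' : J' ≤ r := hle
    have h1 : P ≤ Ideal.primesOver.mk q Q := by
      have := (PrimeSpectrum.primesOverOrderIsoFiber A B q).symm.monotone hle'
      rwa [OrderIso.symm_apply_apply] at this
    have h2 : Q ≤ P.1 := hQm.2 (P.2.1) h1
    have h3 : Ideal.primesOver.mk q Q ≤ P := h2
    have h4 := (PrimeSpectrum.primesOverOrderIsoFiber A B q).monotone h3
    rw [OrderIso.apply_symm_apply] at h4
    exact h4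
  obtain ⟨n, hn, hn'⟩ := hF q hqm r.1 hrm
  obtain ⟨m, hm, hm'⟩ := hA q hqm
  refine ⟨m * n, mul_dvd_mul hm hn, ?_⟩
  have key := length_localization_fiber (B := B) q r.1
  rw [hn', hm', ← Nat.cast_mul] at key
  rw [length_congr _ _ hr]
  exact key

theorem DL.of_isPurelyInseparable (k L K : Type u) [Field k] [Field L] [Algebra k L] [Field K] [Algebra k K]
    [FiniteDimensional k L] [IsPurelyInseparable k L] : DL (finrank k L) (K ⊗[k] L) := by
  intro q hq _
  have hinj := (PrimeSpectrum.isHomeomorph_comap_of_isPurelyInseparable k L K).bijective.injective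
  have hlen : Module.length K (Localization.AtPrime q) = (finrank k L : ℕ) := by
    have hu : q.primeCompl ≤ IsUnit.submonoid (K ⊗[k] L) := by
      intro x hx
      by_contra hxu
      obtain ⟨M, hM, hxM⟩ := exists_max_ideal_of_mem_nonunits hxu
      have h1 : (⟨M, hM.isPrime⟩ : PrimeSpectrum (K ⊗[k] L)) = ⟨q, hq⟩ :=
        hinj (Subsingleton.elim _ _)
      have h2 : M = q := congrArg PrimeSpectrum.asIdeal h1
      exact hx (h2 ▸ hxM)
    let e : (K ⊗[k] L) ≃ₗ[K] Localization.AtPrime q :=
      ((IsLocalization.atUnits (K ⊗[k] L) q.primeCompl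
        (S := Localization.AtPrime q) hu).restrictScalars K).toLinearEquiv
    rw [← e.length_eq, Module.length_eq_finrank, Module.finrank_baseChange]
  rw [IsLocalRing.length_restrictScalars K (Localization.AtPrime q) (Localization.AtPrime q)]
    at hlen
  have hb : Module.length (IsLocalRing.ResidueField K)
      (IsLocalRing.ResidueField (Localization.AtPrime q)) ≠ 0 := by
    simpa [pos_iff_ne_zero] using Module.length_pos
  have ha : Module.length (Localization.AtPrime q) (Localization.AtPrime q) ≠ 0 := by
    simpa [pos_iff_ne_zero] using Module.length_pos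
  generalize Module.length (Localization.AtPrime q) (Localization.AtPrime q) = a at *
  generalize Module.length (IsLocalRing.ResidueField K)
      (IsLocalRing.ResidueField (Localization.AtPrime q)) = b at *
  induction a using ENat.recTopCoe with
  | top =>
    rw [ENat.top_mul hb] at hlen
    exact absurd hlen.symm (ENat.natCast_ne_top _)
  | coe a =>
    induction b using ENat.recTopCoe with
    | top =>
      rw [ENat.mul_top ha] at hlen
      exact absurd hlen.symm (ENat.natCast_ne_top _)
    | coe b =>
      have hab : a * b = finrank k L := by exact_mod_cast hlen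
      exact ⟨a, ⟨b, hab.symm⟩, rfl⟩

theorem DL.of_isSeparable (k L K : Type u) [Field k] [Field L] [Algebra k L] [Field K] [Algebra k K]
    [FiniteDimensional k L] [Algebra.IsSeparable k L] : DL 1 (K ⊗[k] L) := by
  have := Algebra.FormallyUnramified.of_isSeparable k L
  have : IsReduced (K ⊗[k] L) :=
    Algebra.FormallyUnramified.isReduced_of_field K (K ⊗[k] L)
  exact DL.of_isReduced _

theorem DL.tower {M N : ℕ} {k L₁ L₂ : Type u} [Field k] [Field L₁] [Field L₂] [Algebra k L₁]
    [Algebra L₁ L₂] [Algebra k L₂] [IsScalarTower k L₁ L₂]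
    (h₁ : ∀ (K : Type u) [Field K] [Algebra k K], DL M (K ⊗[k] L₁))
    (h₂ : ∀ (K : Type u) [Field K] [Algebra L₁ K], DL N (K ⊗[L₁] L₂)) (K : Type u) [Field K] [Algebra k K] :
    DL (M * N) (K ⊗[k] L₂) := by
  let A := L₁ ⊗[k] K
  let B := A ⊗[L₁] L₂
  have hA : DL M A := (h₁ K).of_ringEquiv (Algebra.TensorProduct.comm k K L₁).toRingEquiv
  have hB : DL (M * N) B := by
    refine DL.of_flat (A := A) (B := B) hA ?_
    intro q hq _
    exact (h₂ q.ResidueField).of_ringEquiv
      (Algebra.TensorProduct.cancelBaseChange L₁ A A q.ResidueField L₂).symm.toRingEquiv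
  refine hB.of_ringEquiv ?_
  exact (Algebra.TensorProduct.comm L₁ A L₂).toRingEquiv.trans
    ((Algebra.TensorProduct.cancelBaseChange k L₁ L₁ L₂ K).toRingEquiv.trans
      (Algebra.TensorProduct.comm k L₂ K).toRingEquiv)

/-- The lengths of the local rings of `K ⊗[k] L` at minimal primes divide the inseparable degree of `L / k`. -/
theorem main (k L K : Type u) [Field k] [Field L] [Algebra k L] [Field K] [Algebra k K]
    [FiniteDimensional k L] : DL (Field.finInsepDegree k L) (K ⊗[k] L) := by
  have h := DL.tower (M := 1) (N := finrank (separableClosure k L) L) (k := k)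
    (L₁ := separableClosure k L) (L₂ := L) (fun K _ _ ↦ DL.of_isSeparable k _ K)
    (fun K _ _ ↦ by
      have := separableClosure.isPurelyInseparable k L
      exact DL.of_isPurelyInseparable _ L K) K
  rwa [one_mul] at h

end K133.LenDvd
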