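import Groth.Agent.Divis.StalkAssoc
import Groth.Agent.Cyc.K133.DVRLen

/-!
# The closed subscheme without embedded components attached to an effective cycle of regular codimension one
-/

set_option autoImplicit false
universe u

open CategoryTheory CategoryTheory.Limits AlgebraicGeometry TopologicalSpace IsLocalRing

namespace K133.NoEmb

open Groth.Agent.Divis.CartierBasic Groth.Agent.Divis.CartierStalk Groth.Agent.Divis.StalkAssoc
  Groth.Agent.CycB.LocQuot

variable {X : Scheme.{u}} (n : X → ℕ)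

/-- The sections whose germ at `x` is in `m_x ^ n x` for all `x`. -/
noncomputable def secIdeal (U : X.Opens) : Ideal Γ(X, U) :=
  ⨅ (x : X) (hx : x ∈ U), (maximalIdeal (X.presheaf.stalk x) ^ n x).comap (X.presheaf.germ U x hx).hom

lemma mem_secIdeal (U : X.Opens) (a : Γ(X, U)) :
    a ∈ secIdeal n U ↔ ∀ (x : X) (hx : x ∈ U),
      X.presheaf.germ U x hx a ∈ maximalIdeal (X.presheaf.stalk x) ^ n x := by
  simp only [secIdeal, Ideal.mem_iInf, Ideal.mem_comap]

/-- The germs whose image at every generization `y` is in `m_y ^ n y`. -/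
noncomputable def locIdeal (x : X) : Ideal (X.presheaf.stalk x) :=
  ⨅ (y : X) (h : y ⤳ x), (maximalIdeal (X.presheaf.stalk y) ^ n y).comap
    (X.presheaf.stalkSpecializes h).hom

lemma mem_locIdeal (x : X) (a : X.presheaf.stalk x) :
    a ∈ locIdeal n x ↔ ∀ (y : X) (h : y ⤳ x),
      (X.presheaf.stalkSpecializes h).hom a ∈ maximalIdeal (X.presheaf.stalk y) ^ n y := by
  simp only [locIdeal, Ideal.mem_iInf, Ideal.mem_comap]

lemma exists_bound {n : X → ℕ} (hfin : {x | n x ≠ 0}.Finite) : ∃ N : ℕ, ∀ x, n x ≤ N := by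
  refine ⟨hfin.toFinset.sup n, fun x ↦ ?_⟩
  by_cases hx : n x = 0
  · rw [hx]; exact Nat.zero_le _
  · exact Finset.le_sup (f := n) (hfin.mem_toFinset.mpr hx)

lemma germ_mem_maximalIdeal {U : X.Opens} {x : X} (hx : x ∈ U) (s : Γ(X, U)) (h : x ∉ X.basicOpen s) :
    X.presheaf.germ U x hx s ∈ maximalIdeal (X.presheaf.stalk x) := by
  rw [Scheme.mem_basicOpen _ _ _ hx] at h
  exact h

/-- The ideal sheaf of the sections whose germ at `x` is in `m_x ^ n x` for all `x`. -/
noncomputable def idl (hfin : {x | n x ≠ 0}.Finite) : X.IdealSheafData where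
  ideal U := secIdeal n U.1
  map_ideal_basicOpen U f := by
    change _ = secIdeal n (X.basicOpen f)
    apply le_antisymm
    · rw [Ideal.map_le_iff_le_comap]
      intro a ha
      rw [mem_secIdeal] at ha
      rw [Ideal.mem_comap, mem_secIdeal]
      intro x hx
      have h1 := ha x (X.basicOpen_le f hx)
      rwa [← X.presheaf.germ_res_apply (homOfLE (X.basicOpen_le f)) x hx] at h1
    · intro b hb
      rw [mem_secIdeal] at hb
      have hloc : IsLocalization.Away f Γ(X, X.basicOpen f) := U.2.isLocalization_basicOpen f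
      obtain ⟨k, a, hab⟩ := IsLocalization.Away.surj f b
      obtain ⟨N, hN⟩ := exists_bound hfin
      have hf : IsUnit (algebraMap Γ(X, U.1) Γ(X, X.basicOpen f) f) :=
        IsLocalization.Away.algebraMap_isUnit f
      have h1 : f ^ N * a ∈ secIdeal n U.1 := by
        rw [mem_secIdeal]
        intro x hx
        by_cases hxf : x ∈ X.basicOpen f
        · rw [map_mul]
          refine Ideal.mul_mem_left _ _ ?_
          have h2 := X.presheaf.germ_res_apply (homOfLE (X.basicOpen_le f)) x hxf a
          have h3 : X.presheaf.germ U.1 x hx a = X.presheaf.germ (X.basicOpen f) x hxf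
            (algebraMap Γ(X, U.1) Γ(X, X.basicOpen f) a) := h2.symm
          rw [h3, ← hab, map_mul]
          exact Ideal.mul_mem_right _ _ (hb x hxf)
        · rw [map_mul, map_pow]
          refine Ideal.mul_mem_right _ _ ?_
          exact Ideal.pow_le_pow_right (hN x) (Ideal.pow_mem_pow (germ_mem_maximalIdeal hx f hxf) N)
      have h4 := Ideal.mem_map_of_mem (algebraMap Γ(X, U.1) Γ(X, X.basicOpen f)) h1
      rw [map_mul, ← hab, map_pow, Ideal.unit_mul_mem_iff_mem _ (hf.pow N),
        Ideal.mul_unit_mem_iff_mem _ (hf.pow k)] at h4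
      exact h4

@[simp] lemma idl_ideal (hfin : {x | n x ≠ 0}.Finite) (U : X.affineOpens) :
    (idl n hfin).ideal U = secIdeal n U.1 := rfl

/-- A function that is a unit at `x` and vanishes at finitely many points not specializing to `x`. -/
lemma exists_section {x : X} (U : X.affineOpens) (hx : x ∈ U.1) {E : Set X} (hE : E.Finite)
    (h : ∀ y ∈ E, ¬ y ⤳ x) : ∃ s : Γ(X, U.1), x ∈ X.basicOpen s ∧ ∀ y ∈ E, y ∉ X.basicOpen s := by
  have hcl : IsClosed (⋃ y ∈ E, closure {y}) := hE.isClosed_biUnion fun y _ ↦ isClosed_closure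
  let V : X.Opens := ⟨(⋃ y ∈ E, closure {y})ᶜ, hcl.isOpen_compl⟩
  have hxV : x ∈ V := by
    change x ∈ (⋃ y ∈ E, closure {y})ᶜ
    rw [Set.mem_compl_iff, Set.mem_iUnion₂]
    rintro ⟨y, hy, hxy⟩
    exact h y hy (specializes_iff_mem_closure.mpr hxy)
  obtain ⟨s, hs, hxs⟩ := U.2.exists_basicOpen_le (V := V) ⟨x, hxV⟩ hx
  refine ⟨s, hxs, fun y hy hys ↦ ?_⟩
  have := hs hys
  exact this (Set.mem_biUnion hy (subset_closure rfl))

/-- The stalks of the ideal sheaf. -/
theorem stalkIdeal_idl (hfin : {x | n x ≠ 0}.Finite) (x : X) :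
    stalkIdeal (idl n hfin) x = locIdeal n x := by
  obtain ⟨U, hxU⟩ := exists_affine x
  rw [stalkIdeal_eq _ U hxU, idl_ideal]
  apply le_antisymm
  · rw [Ideal.map_le_iff_le_comap]
    intro a ha
    rw [mem_secIdeal] at ha
    rw [Ideal.mem_comap, mem_locIdeal]
    intro y h
    have h1 := ha y (h.mem_open U.1.2 hxU)
    rwa [← X.presheaf.germ_stalkSpecializes_apply hxU h] at h1
  · intro r hr
    rw [mem_locIdeal] at hr
    obtain ⟨N, hN⟩ := exists_bound hfin
    let := X.presheaf.algebra_section_stalk (⟨x, hxU⟩ : U.1)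
    have hloc : IsLocalization.AtPrime (X.presheaf.stalk x) (U.2.primeIdealOf ⟨x, hxU⟩).asIdeal :=
      U.2.isLocalization_stalk ⟨x, hxU⟩
    obtain ⟨⟨a, t⟩, hat⟩ := IsLocalization.surj (U.2.primeIdealOf ⟨x, hxU⟩).asIdeal.primeCompl r
    have hat' : r * X.presheaf.germ U.1 x hxU t.1 = X.presheaf.germ U.1 x hxU a := hat
    have ht : IsUnit (X.presheaf.germ U.1 x hxU t.1) :=
      IsLocalization.map_units (X.presheaf.stalk x) t
    obtain ⟨s, hxs, hs⟩ := exists_section U hxU (E := {y | n y ≠ 0 ∧ ¬ y ⤳ x})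
      (hfin.subset fun y hy ↦ hy.1) (fun y hy ↦ hy.2)
    rw [Scheme.mem_basicOpen _ _ _ hxU] at hxs
    have h1 : s ^ N * a ∈ secIdeal n U.1 := by
      rw [mem_secIdeal]
      intro y hy
      rw [map_mul, map_pow]
      by_cases hny : n y = 0
      · rw [hny, pow_zero, Ideal.one_eq_top]
        trivial
      by_cases hyx : y ⤳ x
      · refine Ideal.mul_mem_left _ _ ?_
        have h2 := hr y hyx
        have h3 := X.presheaf.germ_stalkSpecializes_apply hxU hyx a
        rw [← h3, ← hat']
        change (X.presheaf.stalkSpecializes hyx).hom (r * _) ∈ _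
        rw [map_mul]
        exact Ideal.mul_mem_right _ _ h2
      · refine Ideal.mul_mem_right _ _ ?_
        exact Ideal.pow_le_pow_right (hN y)
          (Ideal.pow_mem_pow (germ_mem_maximalIdeal hy s (hs y ⟨hny, hyx⟩)) N)
    have h4 := Ideal.mem_map_of_mem (X.presheaf.germ U.1 x hxU).hom h1
    have hsu : IsUnit ((X.presheaf.germ U.1 x hxU).hom (s ^ N)) := by
      rw [map_pow]
      exact hxs.pow N
    rw [map_mul, Ideal.unit_mul_mem_iff_mem _ hsu] at h4
    change X.presheaf.germ U.1 x hxU a ∈ _ at h4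
    rw [← hat', Ideal.mul_unit_mem_iff_mem _ ht] at h4
    exact h4

/-- Points with discrete valuation rings do not specialize to each other. -/
theorem eq_of_specializes {x y : X} (h : y ⤳ x)
    (hx : ∃ _ : IsDomain ↑(X.presheaf.stalk x), IsDiscreteValuationRing ↑(X.presheaf.stalk x))
    (hy : ∃ _ : IsDomain ↑(X.presheaf.stalk y), IsDiscreteValuationRing ↑(X.presheaf.stalk y)) :
    y = x := by
  obtain ⟨_, _⟩ := hx
  obtain ⟨_, _⟩ := hy
  rw [← primeOf_inj h (specializes_refl x), primeOf_refl]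
  apply PrimeSpectrum.ext
  have hne : (primeOf h).asIdeal ≠ ⊥ := by
    intro hbot
    let := (X.presheaf.stalkSpecializes h).hom.toAlgebra
    have hloc : IsLocalization.AtPrime (X.presheaf.stalk y) (RingHom.ker (Cyc.specMap x y h)) :=
      isLocalization_stalkSpecializes h
    obtain ⟨ϖ, hϖ⟩ := IsDiscreteValuationRing.exists_irreducible (X.presheaf.stalk y)
    obtain ⟨⟨a, s⟩, has⟩ := IsLocalization.surj (RingHom.ker (Cyc.specMap x y h)).primeCompl ϖ
    have has' : ϖ * algebraMap (X.presheaf.stalk x) (X.presheaf.stalk y) s.1 =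
      algebraMap (X.presheaf.stalk x) (X.presheaf.stalk y) a := has
    have hs : IsUnit (algebraMap (X.presheaf.stalk x) (X.presheaf.stalk y) s.1) :=
      IsLocalization.map_units _ s
    have ha : a ≠ 0 := by
      rintro rfl
      rw [map_zero] at has'
      rcases mul_eq_zero.mp has' with h1 | h1
      · exact hϖ.ne_zero h1
      · exact hs.ne_zero h1
    have ha' : a ∈ (RingHom.ker (Cyc.specMap x y h)).primeCompl := by
      intro h1
      have h2 : a ∈ RingHom.ker (Cyc.specMap x y h) := h1
      rw [← primeOf_asIdeal, hbot, Ideal.mem_bot] at h2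
      exact ha h2
    have hau : IsUnit (algebraMap (X.presheaf.stalk x) (X.presheaf.stalk y) a) :=
      IsLocalization.map_units _
        (⟨a, ha'⟩ : (RingHom.ker (Cyc.specMap x y h)).primeCompl)
    rw [← has'] at hau
    exact hϖ.not_isUnit (isUnit_of_mul_isUnit_left hau)
  have hmax : (primeOf h).asIdeal.IsMaximal := (primeOf h).2.isMaximal hne
  exact IsLocalRing.eq_maximalIdeal hmax

end K133.NoEmb
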