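import Groth.Agent.Cyc.K133.NoEmb
import Groth.Agent.CycA.LenPow
import Mathlib.RingTheory.Ideal.AssociatedPrime.Basic

/-!
# Existence and uniqueness of the closed subscheme without embedded components of a given cycle
-/

set_option autoImplicit false
universe u

open CategoryTheory CategoryTheory.Limits AlgebraicGeometry TopologicalSpace IsLocalRing

namespace K133.NoEmbMain

open Groth.Agent.Divis.CartierBasic Groth.Agent.Divis.CartierStalk Groth.Agent.Divis.StalkAssoc
  Groth.Agent.CycB.LocQuot K133.NoEmb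

/-- An element outside an ideal has a multiple whose colon ideal is prime. -/
theorem exists_colon_prime {A : Type*} [CommRing A] [IsNoetherianRing A] (J : Ideal A) (r : A) (hr : r ∉ J) :
    ∃ (q : Ideal A) (_ : q.IsPrime) (b : A), ∀ s, s ∈ q ↔ s * (b * r) ∈ J := by
  have hne : Ideal.Quotient.mk J r ≠ 0 := fun h ↦ hr (Ideal.Quotient.eq_zero_iff_mem.mp h)
  have hnt : Nontrivial ↥(Submodule.span A {Ideal.Quotient.mk J r}) :=
    ⟨⟨⟨Ideal.Quotient.mk J r, Submodule.mem_span_singleton_self _⟩, 0, fun h ↦ hne (congrArg Subtype.val h)⟩⟩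
  obtain ⟨q, hq⟩ := associatedPrimes.nonempty A ↥(Submodule.span A {Ideal.Quotient.mk J r})
  obtain ⟨hqp, ⟨y, hy⟩, hqy⟩ := isAssociatedPrime_iff.mp (AssociatedPrimes.mem_iff.mp hq)
  obtain ⟨b, rfl⟩ := Submodule.mem_span_singleton.mp hy
  refine ⟨q, hqp, b, fun s ↦ ?_⟩
  rw [hqy, Submodule.mem_colon_singleton, Submodule.mem_bot, ← Ideal.Quotient.eq_zero_iff_mem,
    ← Submodule.coe_eq_zero]
  rfl

variable {X : Scheme.{u}} (n : X → ℕ)

theorem length_stalk (𝓙 : X.IdealSheafData) (z : 𝓙.subscheme) :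
    Module.length (𝓙.subscheme.presheaf.stalk z) (𝓙.subscheme.presheaf.stalk z) =
      Module.length (X.presheaf.stalk (𝓙.subschemeι z))
        (X.presheaf.stalk (𝓙.subschemeι z) ⧸ stalkIdeal 𝓙 (𝓙.subschemeι z)) := by
  rw [← Groth.Agent.CycA.LenPow.length_self_of_ringEquiv (stalkQuotEquiv 𝓙 z)]
  exact (Module.length_eq_of_surjective Ideal.Quotient.mk_surjective).symm

variable (𝓙 : X.IdealSheafData)

/-- no embedded components -/
def Cond1 : Prop := ∀ z : ↥𝓙.subscheme,
  IsAssociatedPrime (IsLocalRing.maximalIdeal ↑(𝓙.subscheme.presheaf.stalk z))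
    ↑(𝓙.subscheme.presheaf.stalk z) → ∀ z' : ↥𝓙.subscheme, z' ⤳ z → z' = z

/-- the cycle -/
def Cond2 : Prop := ∀ z : ↥𝓙.subscheme, (∀ z' : ↥𝓙.subscheme, z' ⤳ z → z' = z) →
  Module.length ↑(𝓙.subscheme.presheaf.stalk z) ↑(𝓙.subscheme.presheaf.stalk z) =
    (n (𝓙.subschemeι z) : ℕ∞)

/-- the points of the cycle are maximal points -/
def Cond3 : Prop := ∀ x : X, n x ≠ 0 → ∃ z : ↥𝓙.subscheme, 𝓙.subschemeι z = x ∧
  ∀ z' : ↥𝓙.subscheme, z' ⤳ z → z' = z

/-- The points of the cycle have discrete valuation rings. -/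
def Reg : Prop := ∀ x : X, n x ≠ 0 →
  ∃ _ : IsDomain ↑(X.presheaf.stalk x), IsDiscreteValuationRing ↑(X.presheaf.stalk x)

theorem isAssociatedPrime_of_eq (z : 𝓙.subscheme) {y : X} (hz : 𝓙.subschemeι z = y) (c : X.presheaf.stalk y)
    (h : ∀ s, s ∈ IsLocalRing.maximalIdeal (X.presheaf.stalk y) ↔ s * c ∈ stalkIdeal 𝓙 y) :
    IsAssociatedPrime (IsLocalRing.maximalIdeal ↑(𝓙.subscheme.presheaf.stalk z))
      ↑(𝓙.subscheme.presheaf.stalk z) := by
  subst hz
  exact isAssociatedPrime_stalk_subscheme 𝓙 z c h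

variable {n} {𝓙}

theorem stalkIdeal_eq_pow (hreg : Reg n) (h2 : Cond2 n 𝓙) (h3 : Cond3 n 𝓙) {x : X} (hx : n x ≠ 0) :
    stalkIdeal 𝓙 x = maximalIdeal (X.presheaf.stalk x) ^ n x := by
  obtain ⟨z, rfl, hz⟩ := h3 x hx
  obtain ⟨_, _⟩ := hreg _ hx
  have h4 := h2 z hz
  rw [length_stalk] at h4
  exact DVRLen.eq_pow_of_length _ _ h4

/-- Uniqueness: the stalks of the ideal sheaf are determined. -/
theorem stalkIdeal_eq_locIdeal [IsLocallyNoetherian X] (hreg : Reg n) (h1 : Cond1 𝓙) (h2 : Cond2 n 𝓙)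
    (h3 : Cond3 n 𝓙) (x : X) : stalkIdeal 𝓙 x = locIdeal n x := by
  apply le_antisymm
  · intro r hr
    rw [mem_locIdeal]
    intro y h
    by_cases hy : n y = 0
    · rw [hy, pow_zero, Ideal.one_eq_top]; trivial
    · rw [← stalkIdeal_eq_pow hreg h2 h3 hy, ← stalkIdeal_map_stalkSpecializes 𝓙 h]
      exact Ideal.mem_map_of_mem _ hr
  · intro r hr
    by_contra hr'
    obtain ⟨q, hq, b, hb⟩ := exists_colon_prime _ r hr'
    have h4 := mem_maximalIdeal_iff_of_colon 𝓙 ⟨q, hq⟩ (b * r) hb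
    set y := ptOf ⟨q, hq⟩ with hy
    have hyx : y ⤳ x := ptOf_specializes ⟨q, hq⟩
    have hyJ : y ∈ 𝓙.support := by
      rw [mem_support_iff_stalkIdeal_ne_top]
      intro h5
      have h6 := (h4 1).mpr (by rw [h5]; trivial)
      exact (Ideal.ne_top_iff_one _).mp (Ideal.IsPrime.ne_top inferInstance) h6
    obtain ⟨z, hz⟩ := exists_subscheme_apply_eq 𝓙 hyJ
    have hz1 : ∀ z' : ↥𝓙.subscheme, z' ⤳ z → z' = z := by
      exact h1 z (isAssociatedPrime_of_eq 𝓙 z hz _ h4)
    have hny : n y ≠ 0 := by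
      intro h5
      have h6 := h2 z hz1
      rw [hz, h5, Nat.cast_zero, Module.length_eq_zero_iff] at h6
      exact not_subsingleton _ h6
    rw [mem_locIdeal] at hr
    have h7 := hr y hyx
    rw [← stalkIdeal_eq_pow hreg h2 h3 hny] at h7
    have h8 := (h4 1).mpr (by
      rw [map_mul, one_mul]
      exact Ideal.mul_mem_left _ _ h7)
    exact (Ideal.ne_top_iff_one _).mp (Ideal.IsPrime.ne_top inferInstance) h8

/-! ### Existence -/

theorem locIdeal_eq_pow (hreg : Reg n) {x : X} (hx : n x ≠ 0) :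
    locIdeal n x = maximalIdeal (X.presheaf.stalk x) ^ n x := by
  ext r
  rw [mem_locIdeal]
  constructor
  · intro h
    have h1 := h x (specializes_refl x)
    rwa [TopCat.Presheaf.stalkSpecializes_refl] at h1
  · intro h y hyx
    by_cases hy : n y = 0
    · rw [hy, pow_zero, Ideal.one_eq_top]; trivial
    · obtain rfl := eq_of_specializes hyx (hreg x hx) (hreg y hy)
      rw [TopCat.Presheaf.stalkSpecializes_refl]
      exact h

theorem mem_support_idl_iff (hfin : {x | n x ≠ 0}.Finite) (x : X) :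
    x ∈ (idl n hfin).support ↔ ∃ y, n y ≠ 0 ∧ y ⤳ x := by
  rw [mem_support_iff_stalkIdeal_ne_top, stalkIdeal_idl, Ideal.ne_top_iff_one, mem_locIdeal]
  constructor
  · intro h
    push Not at h
    obtain ⟨y, hyx, hy⟩ := h
    refine ⟨y, fun h0 ↦ hy ?_, hyx⟩
    rw [h0, pow_zero, Ideal.one_eq_top]
    trivial
  · rintro ⟨y, hy, hyx⟩ h
    have h1 := h y hyx
    rw [map_one] at h1
    exact (Ideal.ne_top_iff_one _).mp (Ideal.IsPrime.ne_top inferInstance) (Ideal.pow_le_self hy h1)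

theorem eq_of_generization (hreg : Reg n) (hfin : {x | n x ≠ 0}.Finite) (z z' : (idl n hfin).subscheme)
    (hz : n ((idl n hfin).subschemeι z) ≠ 0) (h : z' ⤳ z) : z' = z := by
  have h1 : (idl n hfin).subschemeι z' ⤳ (idl n hfin).subschemeι z :=
    (subschemeι_specializes_iff _ z' z).mpr h
  obtain ⟨y, hy, hyz⟩ := (mem_support_idl_iff hfin _).mp (subschemeι_mem_support (idl n hfin) z')
  have h2 := eq_of_specializes (hyz.trans h1) (hreg _ hz) (hreg _ hy)
  rw [h2] at hyz
  exact (idl n hfin).subschemeι.isEmbedding.injective ((h1.antisymm hyz).eq)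

theorem cond3_idl (hreg : Reg n) (hfin : {x | n x ≠ 0}.Finite) : Cond3 n (idl n hfin) := by
  intro x hx
  obtain ⟨z, hz⟩ := exists_subscheme_apply_eq (idl n hfin)
    ((mem_support_idl_iff hfin x).mpr ⟨x, hx, specializes_refl x⟩)
  refine ⟨z, hz, fun z' h ↦ eq_of_generization hreg hfin z z' ?_ h⟩
  rwa [hz]

theorem cond2_idl (hreg : Reg n) (hfin : {x | n x ≠ 0}.Finite) : Cond2 n (idl n hfin) := by
  intro z hz
  obtain ⟨y, hy, hyz⟩ := (mem_support_idl_iff hfin _).mp (subschemeι_mem_support (idl n hfin) z)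
  obtain ⟨z', hz'⟩ := exists_subscheme_apply_eq (idl n hfin)
    ((mem_support_idl_iff hfin y).mpr ⟨y, hy, specializes_refl y⟩)
  have h1 : z' = z := hz z' ((subschemeι_specializes_iff _ z' z).mp (by rwa [hz']))
  subst h1
  subst hz'
  rw [length_stalk, stalkIdeal_idl, locIdeal_eq_pow hreg hy]
  obtain ⟨_, _⟩ := hreg _ hy
  exact DVRLen.length_quot_pow _

theorem cond1_idl [IsLocallyNoetherian X] (hreg : Reg n) (hfin : {x | n x ≠ 0}.Finite) :
    Cond1 (idl n hfin) := by
  intro z hz z' hz'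
  refine eq_of_generization hreg hfin z z' ?_ hz'
  have hsurj := stalkMap_subschemeι_surjective (idl n hfin) z
  have hN : IsNoetherianRing ((idl n hfin).subscheme.presheaf.stalk z) :=
    isNoetherianRing_of_surjective _ _ ((idl n hfin).subschemeι.stalkMap z).hom hsurj
  obtain ⟨-, c, hc⟩ := isAssociatedPrime_iff.mp hz
  obtain ⟨a, rfl⟩ := hsurj c
  have key : ∀ r : X.presheaf.stalk ((idl n hfin).subschemeι z),
      r ∈ maximalIdeal (X.presheaf.stalk ((idl n hfin).subschemeι z)) ↔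
        r * a ∈ locIdeal n ((idl n hfin).subschemeι z) := by
    intro r
    rw [← stalkIdeal_idl n hfin, ← ker_stalkMap_subschemeι, RingHom.mem_ker, map_mul,
      ← smul_eq_mul, ← Submodule.mem_bot (R := (idl n hfin).subscheme.presheaf.stalk z),
      ← Submodule.mem_colon_singleton, ← hc, mem_maximalIdeal, mem_maximalIdeal, mem_nonunits_iff,
      mem_nonunits_iff, not_iff_not]
    exact ⟨fun h ↦ h.map _,
      fun h ↦ IsLocalHom.map_nonunit (f := ((idl n hfin).subschemeι.stalkMap z).hom) _ h⟩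
  clear hc hsurj hN hz hz'
  generalize (idl n hfin).subschemeι z = x at *
  have ha : a ∉ locIdeal n x := by
    intro h
    have := (key 1).mpr (by rwa [one_mul])
    exact (Ideal.ne_top_iff_one _).mp (Ideal.IsPrime.ne_top inferInstance) this
  rw [mem_locIdeal] at ha
  push Not at ha
  obtain ⟨y, hyx, hy⟩ := ha
  have hyx' : y = x := by
    by_contra hne
    have h1 : ¬ maximalIdeal (X.presheaf.stalk x) ≤ (primeOf hyx).asIdeal := by
      intro h2
      apply hne
      rw [← primeOf_inj hyx (specializes_refl x), primeOf_refl]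
      exact PrimeSpectrum.ext
        (le_antisymm (IsLocalRing.le_maximalIdeal (primeOf hyx).2.ne_top) h2)
    obtain ⟨r, hr, hr'⟩ := SetLike.not_le_iff_exists.mp h1
    have h2 : IsUnit ((X.presheaf.stalkSpecializes hyx).hom r) := by
      by_contra h3
      apply hr'
      rw [primeOf_asIdeal, mem_ker_specMap_iff]
      exact h3
    have h3 := (mem_locIdeal n x _).mp ((key r).mp hr) y hyx
    rw [map_mul, Ideal.unit_mul_mem_iff_mem _ h2] at h3
    exact hy h3
  subst hyx'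
  intro h0
  apply hy
  rw [h0, pow_zero, Ideal.one_eq_top]
  trivial

/-- The main theorem. -/
theorem existsUnique [IsLocallyNoetherian X] (hreg : Reg n) (hfin : {x | n x ≠ 0}.Finite) :
    ∃! 𝓙 : X.IdealSheafData, Cond1 𝓙 ∧ Cond2 n 𝓙 ∧ Cond3 n 𝓙 := by
  refine ⟨idl n hfin, ⟨cond1_idl hreg hfin, cond2_idl hreg hfin, cond3_idl hreg hfin⟩, ?_⟩
  rintro 𝓙 ⟨h1, h2, h3⟩
  apply ext_stalkIdeal
  intro x
  rw [stalkIdeal_eq_locIdeal hreg h1 h2 h3, stalkIdeal_idl]

end K133.NoEmbMain
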