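import Groth.Agent.Cyc.K133.LenDvd
import Groth.Agent.Flat2D.PbStalk
import Mathlib.FieldTheory.Normal.Basic
import Mathlib.AlgebraicGeometry.PullbackCarrier

/-!
# Base change along a finite normal field extension: conjugacy of points, lengths of fibres
-/

set_option autoImplicit false
universe u

open CategoryTheory CategoryTheory.Limits AlgebraicGeometry TopologicalSpace IsLocalRing

namespace K133.NormExt

open Groth.Agent.Flat2D.PbStalk

/-- Two embeddings of a normal extension differ by an automorphism. -/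
theorem exists_aut {k K : Type u} [Field k] [Field K] [Algebra k K] [Normal k K] {Ω : Type u} [Field Ω]
    [Algebra k Ω] (φ ψ : K →ₐ[k] Ω) : ∃ σ : K ≃ₐ[k] K, ψ = φ.comp σ.toAlgHom := by
  let _ : Algebra K Ω := φ.toRingHom.toAlgebra
  have : IsScalarTower k K Ω := IsScalarTower.of_algebraMap_eq fun x => (φ.commutes x).symm
  refine ⟨ψ.restrictNormal' K, ?_⟩
  ext x
  exact (AlgHom.restrictNormal_commutes ψ K x).symm

variable {k k' : Type u} [Field k] [Field k'] [Algebra k k'] {X : Scheme.{u}}
  (f : X ⟶ Spec (CommRingCat.of k))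

variable (k k') in
/-- The base extension. -/
noncomputable abbrev bs : Spec (CommRingCat.of k') ⟶ Spec (CommRingCat.of k) :=
  Spec.map (CommRingCat.ofHom (algebraMap k k'))

/-- The automorphism of `X'` given by `σ`. -/
noncomputable def tw (σ : k' ≃ₐ[k] k') : pullback f (bs k k') ⟶ pullback f (bs k k') :=
  pullback.lift (pullback.fst f _)
    (pullback.snd f _ ≫ Spec.map (CommRingCat.ofHom σ.toAlgHom.toRingHom)) (by
      have h1 : σ.toAlgHom.toRingHom.comp (algebraMap k k') = algebraMap k k' := by
        ext r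
        exact σ.commutes r
      rw [Category.assoc, ← Spec.map_comp, ← CommRingCat.ofHom_comp, h1, pullback.condition])

theorem tw_fst (σ : k' ≃ₐ[k] k') : tw f σ ≫ pullback.fst f _ = pullback.fst f _ :=
  pullback.lift_fst _ _ _

theorem tw_snd (σ : k' ≃ₐ[k] k') : tw f σ ≫ pullback.snd f _ =
    pullback.snd f _ ≫ Spec.map (CommRingCat.ofHom σ.toAlgHom.toRingHom) :=
  pullback.lift_snd _ _ _

theorem tw_tw_symm (σ τ : k' ≃ₐ[k] k') (h : ∀ x, σ (τ x) = x) : tw f σ ≫ tw f τ = 𝟙 _ := by
  apply pullback.hom_ext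
  · rw [Category.assoc, tw_fst, tw_fst, Category.id_comp]
  · rw [Category.assoc, tw_snd, ← Category.assoc, tw_snd, Category.assoc, ← Spec.map_comp,
      ← CommRingCat.ofHom_comp, Category.id_comp]
    have h1 : σ.toAlgHom.toRingHom.comp τ.toAlgHom.toRingHom = RingHom.id k' := by
      ext x
      exact h x
    rw [h1]
    exact (congrArg (pullback.snd f _ ≫ ·) (Spec.map_id _)).trans (Category.comp_id _)

instance (σ : k' ≃ₐ[k] k') : IsIso (tw f σ) :=
  ⟨tw f σ.symm, tw_tw_symm f _ _ (fun x ↦ σ.apply_symm_apply x), tw_tw_symm f _ _ (fun x ↦ σ.symm_apply_apply x)⟩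

/-- Points over the same point of `X` are conjugate. -/
theorem exists_tw [Normal k k'] (x y : ↥(pullback f (bs k k')))
    (h : pullback.fst f (bs k k') x = pullback.fst f (bs k k') y) :
    ∃ σ : k' ≃ₐ[k] k', tw f σ x = y := by
  let P := pullback f (bs k k')
  let p : P ⟶ X := pullback.fst f (bs k k')
  obtain ⟨w, -, -⟩ := Scheme.Pullback.exists_preimage_pullback (f := P.fromSpecResidueField x ≫ p)
    (g := P.fromSpecResidueField y ≫ p) (IsLocalRing.closedPoint _) (IsLocalRing.closedPoint _) (by
      rw [Scheme.Hom.comp_apply, Scheme.Hom.comp_apply, Scheme.fromSpecResidueField_apply,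
        Scheme.fromSpecResidueField_apply]
      exact h)
  let Q := pullback (P.fromSpecResidueField x ≫ p) (P.fromSpecResidueField y ≫ p)
  let Ω := Q.residueField w
  let a : Spec (CommRingCat.of Ω) ⟶ P := Q.fromSpecResidueField w ≫ pullback.fst _ _ ≫ P.fromSpecResidueField x
  let b : Spec (CommRingCat.of Ω) ⟶ P := Q.fromSpecResidueField w ≫ pullback.snd _ _ ≫ P.fromSpecResidueField y
  have hab : a ≫ p = b ≫ p := by
    simp only [a, b, Category.assoc]
    rw [pullback.condition]
  obtain ⟨c, hc⟩ := Spec.map_surjective (a ≫ p ≫ f)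
  obtain ⟨u, hu⟩ := Spec.map_surjective (a ≫ pullback.snd f (bs k k'))
  obtain ⟨v, hv⟩ := Spec.map_surjective (b ≫ pullback.snd f (bs k k'))
  let : Algebra k Ω := c.hom.toAlgebra
  have hcu : CommRingCat.ofHom (algebraMap k k') ≫ u = c := by
    apply Spec.map_injective
    rw [Spec.map_comp, hu, hc, Category.assoc, ← pullback.condition]
  have hcv : CommRingCat.ofHom (algebraMap k k') ≫ v = c := by
    apply Spec.map_injective
    rw [Spec.map_comp, hv, hc, Category.assoc, ← pullback.condition, ← Category.assoc, ← Category.assoc, hab]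
  let φ : k' →ₐ[k] Ω := { u.hom with commutes' := fun r ↦ congrArg (fun (g : CommRingCat.of k ⟶ _) ↦ g.hom r) hcu }
  let ψ : k' →ₐ[k] Ω := { v.hom with commutes' := fun r ↦ congrArg (fun (g : CommRingCat.of k ⟶ _) ↦ g.hom r) hcv }
  obtain ⟨σ, hσ⟩ := exists_aut φ ψ
  have huv : CommRingCat.ofHom σ.toAlgHom.toRingHom ≫ u = v := by
    ext r
    exact (congrArg (fun (g : k' →ₐ[k] Ω) ↦ g r) hσ).symm
  refine ⟨σ, ?_⟩
  have key : a ≫ tw f σ = b := by
    apply pullback.hom_ext
    · rw [Category.assoc, tw_fst]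
      exact hab
    · rw [Category.assoc, tw_snd, ← Category.assoc, ← hu, ← Spec.map_comp, huv, hv]
  have ha : a (IsLocalRing.closedPoint Ω) = x := by
    simp only [a, Scheme.Hom.comp_apply]
    rw [Scheme.fromSpecResidueField_apply]
  have hb : b (IsLocalRing.closedPoint Ω) = y := by
    simp only [b, Scheme.Hom.comp_apply]
    rw [Scheme.fromSpecResidueField_apply]
  have h3 : (a ≫ tw f σ) (IsLocalRing.closedPoint Ω) = tw f σ (a (IsLocalRing.closedPoint Ω)) :=
    Scheme.Hom.comp_apply _ _ _
  rw [ha, key, hb] at h3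
  exact h3.symm

/-- The length of the local ring of the fibre. -/
noncomputable def len {X Y : Scheme.{u}} (p : X ⟶ Y) (x : X) : ℕ∞ :=
  Module.length (X.presheaf.stalk x) (X.presheaf.stalk x ⧸ fiberIdeal p x)

theorem length_quot_of_ringEquiv {A B : Type*} [CommRing A] [CommRing B] (e : A ≃+* B) (I : Ideal A) :
    Module.length B (B ⧸ I.map (e : A →+* B)) = Module.length A (A ⧸ I) := by
  rw [Module.length_eq_of_surjective (R := B ⧸ I.map (e : A →+* B)) (S := B) Ideal.Quotient.mk_surjective,
    Module.length_eq_of_surjective (R := A ⧸ I) (S := A) Ideal.Quotient.mk_surjective]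
  exact (Groth.Agent.CycA.LenPow.length_self_of_ringEquiv (Ideal.quotientEquiv I _ e rfl)).symm

theorem len_tw (σ : k' ≃ₐ[k] k') (x : ↥(pullback f (bs k k'))) :
    len (pullback.fst f (bs k k')) (tw f σ x) = len (pullback.fst f (bs k k')) x := by
  have h1 : fiberIdeal (tw f σ ≫ pullback.fst f (bs k k')) x = fiberIdeal (pullback.fst f (bs k k')) x :=
    congrArg (fun g ↦ fiberIdeal g x) (tw_fst f σ)
  rw [len, len, ← h1]
  have h2 : fiberIdeal (tw f σ ≫ pullback.fst f (bs k k')) x =
      (fiberIdeal (pullback.fst f (bs k k')) (tw f σ x)).map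
        ((asIso ((tw f σ).stalkMap x)).commRingCatIsoToRingEquiv : _ →+* _) := by
    unfold fiberIdeal
    rw [Ideal.map_map]
    congr 1
    rw [Scheme.Hom.stalkMap_comp]
    rfl
  rw [h2, length_quot_of_ringEquiv]

open scoped TensorProduct in
/-- The length of the local ring of the fibre divides the inseparable degree. -/
theorem exists_len_eq [FiniteDimensional k k'] (x : ↥(pullback f (bs k k'))) :
    ∃ n : ℕ, n ∣ Field.finInsepDegree k k' ∧ len (pullback.fst f (bs k k')) x = n := by
  let P := pullback f (bs k k')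
  let p : P ⟶ X := pullback.fst f (bs k k')
  let K := X.residueField (p x)
  obtain ⟨c, hc⟩ := Spec.map_surjective (X.fromSpecResidueField (p x) ≫ f)
  let : Algebra k K := c.hom.toAlgebra
  let A := K ⊗[k] k'
  let inl : CommRingCat.of K ⟶ CommRingCat.of A :=
    CommRingCat.ofHom (Algebra.TensorProduct.includeLeftRingHom (R := k) (A := K) (B := k'))
  let inr : CommRingCat.of k' ⟶ CommRingCat.of A :=
    CommRingCat.ofHom ((Algebra.TensorProduct.includeRight (R := k) (A := K) (B := k')).toRingHom)
  have hpo : IsPushout (CommRingCat.ofHom (algebraMap k K)) (CommRingCat.ofHom (algebraMap k k')) inl inr :=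
    CommRingCat.isPushout_tensorProduct k K k'
  have hpb := isPullback_SpecMap_of_isPushout _ _ _ _ hpo
  have hc' : Spec.map (CommRingCat.ofHom (algebraMap k K)) = X.fromSpecResidueField (p x) ≫ f := hc
  rw [hc'] at hpb
  let i : Spec (CommRingCat.of A) ⟶ P :=
    pullback.lift (Spec.map inl ≫ X.fromSpecResidueField (p x)) (Spec.map inr) (by
      rw [Category.assoc]
      exact hpb.w)
  have hi1 : i ≫ p = Spec.map inl ≫ X.fromSpecResidueField (p x) := pullback.lift_fst _ _ _
  have hi2 : i ≫ pullback.snd f (bs k k') = Spec.map inr := pullback.lift_snd _ _ _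
  have H : IsPullback i (Spec.map inl) p (X.fromSpecResidueField (p x)) := by
    refine IsPullback.of_right (h₁₂ := pullback.snd f (bs k k')) (v₁₃ := bs k k') (h₂₂ := f) ?_ hi1
      (IsPullback.of_hasPullback f (bs k k')).flip
    rw [hi2]
    exact hpb.flip
  obtain ⟨z, hz, -⟩ := Scheme.exists_preimage_of_isPullback H x (IsLocalRing.closedPoint K)
    (Scheme.fromSpecResidueField_apply _ _).symm
  let e1 := pbStalkEquiv H z hz
  let : Algebra A ((Spec (CommRingCat.of A)).presheaf.stalk z) :=
    (show Algebra A ((Spec.structureSheaf A).presheaf.stalk z) from inferInstance)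
  have hloc : IsLocalization.AtPrime ((Spec (CommRingCat.of A)).presheaf.stalk z) z.asIdeal :=
    inferInstanceAs (IsLocalization.AtPrime ((Spec.structureSheaf A).presheaf.stalk z) z.asIdeal)
  let e2 : (Spec (CommRingCat.of A)).presheaf.stalk z ≃+* Localization.AtPrime z.asIdeal :=
    (IsLocalization.algEquiv z.asIdeal.primeCompl ((Spec (CommRingCat.of A)).presheaf.stalk z)
      (Localization.AtPrime z.asIdeal)).toRingEquiv
  have hart : IsArtinianRing A := IsArtinianRing.of_finite K A
  obtain ⟨n, hn, hn'⟩ := LenDvd.main k k' K z.asIdeal (Ideal.mem_minimalPrimes_of_krullDimLE_zero _)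
  refine ⟨n, hn, ?_⟩
  rw [len, Module.length_eq_of_surjective (R := P.presheaf.stalk x ⧸ fiberIdeal p x) (S := P.presheaf.stalk x)
    Ideal.Quotient.mk_surjective, ← hn']
  exact Groth.Agent.CycA.LenPow.length_self_of_ringEquiv (e1.trans e2)

end K133.NormExt
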